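import Cfsg.Agent.Lib.SzEightMult.TwoPart

/-!
The kernel of a stem extension of `Sz(8)` is a homomorphic image of `F₈ / F₂`.
-/

set_option autoImplicit false

namespace Cfsg.Agent.SzEightMult

open Cfsg.Agent.S2111
open scoped commutatorElement

variable {F : Type*} [Field F] [Fintype F]

section

variable {Γ : Type*} [Group Γ] (hF : Fintype.card F = 2 ^ (2 * 1 + 1))
  (σ : Γ →* Cfsg.Sz F 1)

include hF in
theorem th_one_eq (a : F) (ha : a ≠ 0) : SZ.th 1 a * a * (a * a) = 1 := by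
  have h : a ^ 7 = 1 := by
    have h1 := FiniteField.pow_card_sub_one_eq_one a ha
    rwa [hF, show (2 : ℕ) ^ (2 * 1 + 1) - 1 = 7 by norm_num] at h1
  rw [SZ.th, show (2 : ℕ) ^ (1 + 1) = 4 by norm_num, ← h]
  ring

/-- The pairing of the two layers is given by a linear map vanishing at one. -/
theorem exists_mixed (hs : Function.Surjective σ) (hz : σ.ker ≤ Subgroup.center Γ) :
    ∃ L : Multiplicative F →* Γ, L.range ≤ σ.ker ∧ L (Multiplicative.ofAdd 1) = 1 ∧
      ∀ x y a b, σ x = SZ.tS hF a 0 → σ y = SZ.tS hF 0 b →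
        ⁅x, y⁆ = L (Multiplicative.ofAdd (a * a * b)) := by
  classical
  choose s hs' using hs
  have hnp : ¬ (Fintype.card F).Prime := by rw [hF]; exact Nat.Prime.not_prime_pow (by norm_num)
  have h4 : Fintype.card F ≠ 4 := by rw [hF]; norm_num
  have h9 : Fintype.card F ≠ 9 := by rw [hF]; norm_num
  let A : F → Cfsg.Sz F 1 := fun a => SZ.tS hF a 0
  let Z : F → Cfsg.Sz F 1 := fun b => SZ.tS hF 0 b
  let C : Cfsg.Sz F 1 → Cfsg.Sz F 1 → Γ := fun X Y => ⁅s X, s Y⁆
  have hC : ∀ x y : Γ, ⁅x, y⁆ = C (σ x) (σ y) := fun x y =>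
    comm_eq_of_map_eq σ hz (hs' _).symm (hs' _).symm
  have Cker : ∀ X Y, Commute X Y → C X Y ∈ σ.ker := by
    intro X Y h
    show σ _ = 1
    rw [map_commutatorElement, hs', hs']
    exact commutatorElement_eq_one_iff_commute.2 h
  have hcen : ∀ X Y, Commute X Y → ∀ g, Commute (C X Y) g := fun X Y h g =>
    (Subgroup.mem_center_iff.1 (hz (Cker X Y h)) g).symm
  have hAZ : ∀ a b, Commute (A a) (Z b) := fun a b => by
    show SZ.tS hF a 0 * SZ.tS hF 0 b = SZ.tS hF 0 b * SZ.tS hF a 0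
    rw [SZ.tS_mul hF, SZ.tS_mul hF]; simp [SZ.th_zero]
  have hZZ : ∀ b b', Z (b + b') = Z b * Z b' := fun b b' => by
    show SZ.tS hF 0 (b + b') = SZ.tS hF 0 b * SZ.tS hF 0 b'
    rw [SZ.tS_mul hF]; simp [SZ.th_zero]
  have Cconj : ∀ (u : Fˣ) X Y, C (SZ.hS hF u * X * (SZ.hS hF u)⁻¹)
      (SZ.hS hF u * Y * (SZ.hS hF u)⁻¹) =
      s (SZ.hS hF u) * C X Y * (s (SZ.hS hF u))⁻¹ := by
    intro u X Y
    rw [← comm_conj, hC (s (SZ.hS hF u) * s X * _)]
    simp only [map_mul, map_inv, hs']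
  -- invariance under the torus
  have hinv : ∀ a b, a ≠ 0 → C (A a) (Z b) = C (A 1) (Z (a * a * b)) := by
    intro a b ha
    obtain ⟨u, hu, hu'⟩ := SZ.k_surj hF ha
    have h := Cconj u (A 1) (Z (a * a * b))
    simp only [A, Z, SZ.hS_conj_tS, mul_zero, hu, mul_one] at h
    rw [hu', ← mul_assoc, th_one_eq hF a ha, one_mul] at h
    show C (SZ.tS hF a 0) (SZ.tS hF 0 b) = C (SZ.tS hF 1 0) (SZ.tS hF 0 (a * a * b))
    rw [h, ← (hcen _ _ (hAZ 1 (a * a * b)) _).eq, mul_inv_cancel_right]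
  have hadd : ∀ b b', C (A 1) (Z (b + b')) = C (A 1) (Z b) * C (A 1) (Z b') := by
    intro b b'
    rw [hZZ]
    show C _ _ = ⁅s (A 1), s (Z b)⁆ * ⁅s (A 1), s (Z b')⁆
    rw [← comm_mul_right (hcen _ _ (hAZ 1 b') _), hC (s (A 1)), map_mul, hs', hs', hs']
  let L : Multiplicative F →* Γ :=
    MonoidHom.mk' (fun b => C (A 1) (Z b.toAdd)) fun b b' => hadd b.toAdd b'.toAdd
  refine ⟨L, ?_, ?_, ?_⟩
  · rintro _ ⟨b, rfl⟩
    exact Cker _ _ (hAZ 1 _)
  · show C (A 1) (Z 1) = 1
    have h1 : Z 1 = σ (s (A 1) * s (A 1)) := by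
      have h2 := SZ.two_zero hF
      rw [map_mul, hs']
      show SZ.tS hF 0 1 = SZ.tS hF 1 0 * SZ.tS hF 1 0
      rw [SZ.tS_mul hF, SZ.th_one]
      congr 1
      · linear_combination -h2
      · ring
    rw [h1, show A 1 = σ (s (A 1)) from (hs' _).symm, ← hC,
      show σ (s (A 1)) = A 1 from hs' _]
    exact commutatorElement_eq_one_iff_commute.2 ((Commute.refl _).mul_right (Commute.refl _))
  · intro x y a b hx hy
    rw [hC, hx, hy]
    show C (A a) (Z b) = C (A 1) (Z (a * a * b))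
    by_cases ha : a = 0
    · subst ha
      have e1 : A 0 = 1 := Subtype.ext SZ.T_zero
      have e2 : Z 0 = 1 := Subtype.ext SZ.T_zero
      rw [mul_zero, zero_mul, e1, e2]
      have hl : ∀ Y, C 1 Y = 1 := fun Y => by
        show C 1 Y = 1
        rw [show C 1 Y = ⁅(1 : Γ), s Y⁆ from (comm_eq_of_map_eq σ hz (by rw [hs', map_one]) rfl),
          commutatorElement_one_left]
      rw [hl, show C (A 1) 1 = ⁅s (A 1), (1 : Γ)⁆ from
        (comm_eq_of_map_eq σ hz rfl (by rw [hs', map_one])), commutatorElement_one_right]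
    · exact hinv a b ha

end

/-- The kernel of a stem extension is in the image of the mixed pairing. -/
theorem exists_hom_ker {Γ : Type*} [Group Γ] [Finite Γ] (hF : Fintype.card F = 2 ^ (2 * 1 + 1))
    (σ : Γ →* Cfsg.Sz F 1) (hσ : Cfsg.IsStemExtension σ) :
    ∃ L : Multiplicative F →* Γ, L.range = σ.ker ∧ L (Multiplicative.ofAdd 1) = 1 := by
  classical
  obtain ⟨hs, hz, hc⟩ := hσ
  obtain ⟨L, hLk, hL1, hL⟩ := exists_mixed hF σ hs hz
  refine ⟨L, le_antisymm hLk ?_, hL1⟩
  have hNn : L.range.Normal :=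
    ⟨fun n hn g => by
      rw [Subgroup.mem_center_iff.1 (hz (hLk hn)) g, mul_inv_cancel_right]; exact hn⟩
  let τ : Γ ⧸ L.range →* Cfsg.Sz F 1 := QuotientGroup.lift L.range σ hLk
  have hτs : Function.Surjective τ := fun g => by
    obtain ⟨x, rfl⟩ := hs g
    exact ⟨x, rfl⟩
  have hτz : τ.ker ≤ Subgroup.center (Γ ⧸ L.range) := by
    intro y hy
    obtain ⟨x, rfl⟩ := QuotientGroup.mk'_surjective L.range y
    rw [Subgroup.mem_center_iff]
    intro g
    obtain ⟨g, rfl⟩ := QuotientGroup.mk'_surjective L.range g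
    rw [← map_mul, ← map_mul, Subgroup.mem_center_iff.1 (hz hy) g]
  haveI : Fact (Nat.Prime 2) := ⟨Nat.prime_two⟩
  obtain ⟨P, hP⟩ := Schur.exists_sylow_le_map σ hs (SZ.uSylow le_rfl hF).isPGroup'
  have hPU : (P : Subgroup Γ).map σ = SZ.uGrp hF :=
    (SZ.uSylow le_rfl hF).is_maximal' (P.2.map σ) hP
  have hbot := commutator_inf_ker_of_mixed le_rfl hF τ hτs hτz
    ((P : Subgroup Γ).map (QuotientGroup.mk' L.range)) (P.2.map _)
    (by
      rintro _ ⟨x, hx, rfl⟩
      have hm : σ x ∈ SZ.uGrp hF := hPU ▸ Subgroup.mem_map_of_mem σ hx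
      obtain ⟨a, b, h⟩ := (SZ.mem_uGrp hF).1 hm
      exact ⟨a, b, h.symm⟩)
    (by
      intro x y a b hx hy
      obtain ⟨x, rfl⟩ := QuotientGroup.mk'_surjective L.range x
      obtain ⟨y, rfl⟩ := QuotientGroup.mk'_surjective L.range y
      rw [← commutatorElement_eq_one_iff_commute, ← map_commutatorElement]
      exact (QuotientGroup.eq_one_iff _).2 ⟨_, (hL x y a b hx hy).symm⟩)
  intro x hx
  have h2 : x ^ (P : Subgroup Γ).index ∈ L.range := by
    have h3 := Schur.pow_index_mem_commutator (P : Subgroup Γ) (hz hx) (hc hx)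
    have h5 : QuotientGroup.mk' L.range (x ^ (P : Subgroup Γ).index) ∈
        ⁅(P : Subgroup Γ).map (QuotientGroup.mk' L.range),
          (P : Subgroup Γ).map (QuotientGroup.mk' L.range)⁆ ⊓ τ.ker := by
      refine ⟨?_, ?_⟩
      · rw [← Subgroup.map_commutator]; exact Subgroup.mem_map_of_mem _ h3
      · show σ _ = 1
        rw [map_pow, MonoidHom.mem_ker.1 hx, one_pow]
    rw [hbot, Subgroup.mem_bot] at h5
    exact (QuotientGroup.eq_one_iff _).1 h5
  have hcop : Nat.Coprime (orderOf x) (P : Subgroup Γ).index := by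
    refine Nat.coprime_of_dvd fun p hp hpx hpi => ?_
    haveI := Fact.mk hp
    have hp2 : p ≠ 2 := fun e => P.not_dvd_index (e ▸ hpi)
    obtain ⟨Q, hQ⟩ := exists_sylow_odd le_rfl hF σ hs hz p hp2
    have h3 : x ^ (Q : Subgroup Γ).index = 1 :=
      Subgroup.mem_bot.1 (hQ ▸ ⟨Schur.pow_index_mem_commutator _ (hz hx) (hc hx), pow_mem hx _⟩)
    exact Q.not_dvd_index (hpx.trans (orderOf_dvd_of_pow_eq_one h3))
  obtain ⟨r, hr⟩ := exists_pow_eq_self_of_coprime hcop.symm
  rw [← hr]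
  exact pow_mem h2 r

theorem z2_cases : ∀ i : ZMod 2, i = 0 ∨ i = 1 := by decide

/-- The kernel of a stem extension is an image of the four-group. -/
theorem exists_surjective {Γ : Type*} [Group Γ] [Finite Γ] (hF : Fintype.card F = 2 ^ (2 * 1 + 1))
    (σ : Γ →* Cfsg.Sz F 1) (hσ : Cfsg.IsStemExtension σ) :
    ∃ π : Multiplicative (ZMod 2 × ZMod 2) →* σ.ker, Function.Surjective π := by
  classical
  haveI : CharP F 2 := SZ.charTwo hF
  haveI : Fact (Nat.Prime 2) := ⟨Nat.prime_two⟩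
  obtain ⟨L, hL, hL1⟩ := exists_hom_ker hF σ hσ
  obtain ⟨g, hg⟩ : ∃ g : F, g ≠ 0 ∧ g ≠ 1 := by
    by_contra hcon
    push Not at hcon
    have h : (Finset.univ : Finset F) ⊆ {0, 1} := fun x _ => by
      simp only [Finset.mem_insert, Finset.mem_singleton]
      exact or_iff_not_imp_left.2 (hcon x)
    have := (Finset.card_le_card h).trans Finset.card_le_two
    rw [Finset.card_univ, hF] at this
    norm_num at this
  obtain ⟨g', hg'⟩ : ∃ g' : F, g' ≠ 0 ∧ g' ≠ 1 ∧ g' ≠ g ∧ g' ≠ g + 1 := by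
    by_contra hcon
    push Not at hcon
    have h : (Finset.univ : Finset F) ⊆ {0, 1, g, g + 1} := fun x _ => by
      simp only [Finset.mem_insert, Finset.mem_singleton]
      by_cases h0 : x = 0
      · exact Or.inl h0
      by_cases h1 : x = 1
      · exact Or.inr (Or.inl h1)
      by_cases h2 : x = g
      · exact Or.inr (Or.inr (Or.inl h2))
      exact Or.inr (Or.inr (Or.inr (hcon x h0 h1 h2)))
    have := (Finset.card_le_card h).trans Finset.card_le_four
    rw [Finset.card_univ, hF] at this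
    norm_num at this
  let c : ZMod 2 →+* F := ZMod.castHom dvd_rfl F
  let f : ZMod 2 × ZMod 2 × ZMod 2 →+ F :=
    AddMonoidHom.mk' (fun x => c x.1 * g + c x.2.1 * g' + c x.2.2) fun x y => by
      simp only [Prod.fst_add, Prod.snd_add, map_add]; ring
  have hf : Function.Bijective f := by
    refine (Fintype.bijective_iff_injective_and_card _).2 ⟨?_, by simp [hF]⟩
    rw [injective_iff_map_eq_zero]
    rintro ⟨i, j, l⟩ h
    change c i * g + c j * g' + c l = 0 at h
    have hneg : ∀ t : F, -t = t := CharTwo.neg_eq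
    rcases (z2_cases i) with rfl | rfl <;>
      rcases (z2_cases j) with rfl | rfl <;>
      rcases (z2_cases l) with rfl | rfl <;>
      simp only [map_zero, map_one, zero_mul, one_mul, zero_add, add_zero] at h <;>
      first
        | rfl
        | exact absurd h one_ne_zero
        | exact absurd h hg.1
        | exact absurd h hg'.1
        | exact absurd (by linear_combination h : g = -1) (by rw [hneg]; exact hg.2)
        | exact absurd (by linear_combination h : g' = -1) (by rw [hneg]; exact hg'.2.1)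
        | exact absurd (by linear_combination h : g' = -g) (by rw [hneg]; exact hg'.2.2.1)
        | exact absurd (by linear_combination h : g' = -(g + 1)) (by rw [hneg]; exact hg'.2.2.2)
  let f' : ZMod 2 × ZMod 2 →+ F :=
    AddMonoidHom.mk' (fun x => c x.1 * g + c x.2 * g') fun x y => by
      simp only [Prod.fst_add, Prod.snd_add, map_add]; ring
  let π : Multiplicative (ZMod 2 × ZMod 2) →* σ.ker :=
    (L.comp f'.toMultiplicative).codRestrict σ.ker fun x => hL ▸ ⟨_, rfl⟩
  refine ⟨π, fun z => ?_⟩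
  have hz : (z : Γ) ∈ L.range := by rw [hL]; exact z.2
  obtain ⟨b, hb⟩ := hz
  obtain ⟨⟨i, j, l⟩, hx⟩ := hf.2 b.toAdd
  refine ⟨Multiplicative.ofAdd (i, j), Subtype.ext ?_⟩
  show L (Multiplicative.ofAdd (c i * g + c j * g')) = z
  change c i * g + c j * g' + c l = b.toAdd at hx
  rw [← hb, show b = Multiplicative.ofAdd (c i * g + c j * g') * Multiplicative.ofAdd (c l) from
    (by rw [← ofAdd_add, hx]; rfl), map_mul]
  rcases (z2_cases l) with rfl | rfl
  · rw [map_zero, ofAdd_zero, map_one, mul_one]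
  · rw [map_one, hL1, mul_one]

end Cfsg.Agent.SzEightMult
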