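import Cfsg.Agent.Lib.SzEight.Field
import Cfsg.Agent.Lib.Sz.Basic

/-!
Monomial matrices over `F₅` on eight points and the generators of the double cover of `Sz(8)`: each is paired
with its image among the `4 × 4` matrices over the field with eight elements.
-/

set_option autoImplicit false

namespace Cfsg.Agent.SzEightMult

open Matrix
open Cfsg.Agent.SzEight

/-- The monomial matrix sending the `x`-th vector to `± ` the `π x`-th. -/
def mono (π : K8 → K8) (e : K8 → Bool) : Matrix K8 K8 (ZMod 5) :=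
  Matrix.of fun r x => if r = π x then (if e x then (4 : ZMod 5) else 1) else 0

theorem four_sq : ∀ b b' : Bool, (if b then (4 : ZMod 5) else 1) * (if b' then (4 : ZMod 5) else 1) =
    if (b ^^ b') then (4 : ZMod 5) else 1 := by decide +kernel

theorem mono_mul (π π' : K8 → K8) (e e' : K8 → Bool) :
    mono π e * mono π' e' = mono (fun x => π (π' x)) (fun x => e (π' x) ^^ e' x) := by
  ext r x
  simp only [mono, Matrix.mul_apply, Matrix.of_apply]
  rw [Finset.sum_eq_single (π' x) (fun b _ hb => by rw [if_neg hb, mul_zero])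
    (fun h => absurd (Finset.mem_univ _) h), if_pos rfl]
  split_ifs <;> simp_all <;> decide

theorem mono_congr {π π' : K8 → K8} {e e' : K8 → Bool} (h1 : ∀ x, π x = π' x) (h2 : ∀ x, e x = e' x) :
    mono π e = mono π' e' := by rw [funext h1, funext h2]

/-- The additive character `y ↦ Tr (c y)`, `c` of trace zero. -/
def lam (y : K8) : Bool :=
  decide (k 2 * y + (k 2 * y) * (k 2 * y) + (k 2 * y) * (k 2 * y) * ((k 2 * y) * (k 2 * y)) = 1)

/-- The sign of a translation. -/
def fA (a x : K8) : Bool :=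
  decide (a ≠ 0) && (decide ((a⁻¹ * x).v = 3) || decide ((a⁻¹ * x).v = 5))

/-- The sign of the lift of `T a b`. -/
def sg (a b x : K8) : Bool := fA a x ^^ lam ((x + a) * (x + a) * b)

/-- The scaling by which the torus acts. -/
def kk (u : K8) : K8 := u * u * (u * u) * u

/-- The second layer of a product. -/
def thA (a : K8) : K8 := a * a * (a * a)

/-- The cocycle. -/
def coc (a b a' b' : K8) : Bool :=
  (sg a b a' ^^ sg a' b' 0) ^^ sg (a + a') (b + b' + thA a * a') 0

/-- The sign of conjugation by the torus. -/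
def cocH (u a b : K8) : Bool := sg a b 0 ^^ sg (kk u * a) (thA u * b) 0

theorem sg_mul : ∀ a b a' b' x : K8, (sg a b (x + a') ^^ sg a' b' x) =
    (coc a b a' b' ^^ sg (a + a') (b + b' + thA a * a') x) := by decide +kernel

theorem sg_conj : ∀ u a b x : K8, u ≠ 0 →
    sg a b x = (cocH u a b ^^ sg (kk u * a) (thA u * b) (kk u * x)) := by decide +kernel

theorem field_facts : ∀ u : K8, u ≠ 0 →
    kk u = u ^ 2 / Cfsg.Agent.SZ.th 1 u ∧ thA u = Cfsg.Agent.SZ.th 1 u := by decide +kernel

theorem th_thA : ∀ u : K8, thA u = Cfsg.Agent.SZ.th 1 u := by decide +kernel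

theorem kk_mul : ∀ u v : K8, kk (u * v) = kk u * kk v := by decide +kernel

/-- Pairs of matrices. -/
abbrev V := Matrix K8 K8 (ZMod 5) × Matrix (Fin 4) (Fin 4) K8

/-- Lift of `T a b`. -/
def uV (s : Bool) (a b : K8) : V :=
  (mono (fun x => x + a) (fun x => s ^^ sg a b x), SZ.tMat 1 a b)

/-- The diagonal of a torus element. -/
def hd (u : K8) : Matrix (Fin 4) (Fin 4) K8 :=
  Matrix.diagonal ![u, SZ.th 1 u / u, u / SZ.th 1 u, u⁻¹]

/-- Lift of a torus element. -/
def hV (u : K8) : V := (mono (fun x => kk u * x) (fun _ => false), hd u)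

/-- The entries off the fixed point. -/
def gTab : Fin 8 → ZMod 5 := ![0, 2, 2, 4, 1, 1, 0, 2]

/-- Lift of the antidiagonal involution. -/
def wV : V :=
  (Matrix.of fun r x => if r = 0 then (if x = 0 then 3 else 4) else (if x = 0 then 4 else gTab (r * x).v),
    SZ.wMat)

/-- Table: sign, `c`, `d`, `v`, `e`, `g` with `w U(a,b) w = ± U(c,d) H(v) w U(e,g)`. -/
def wTab : Fin 64 → ℕ :=
  ![0, 36937, 57589, 61758, 41303, 45466, 49635, 53420, 33352, 37441, 50359, 58529, 26899, 10545, 11685,
    19857, 34984, 15567, 46868, 11212, 7122, 42777, 7388, 55428, 35568, 30165, 60101, 9724, 54166, 22141,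
    41901, 30319, 36152, 21835, 5486, 64774, 23462, 52942, 40676, 19369, 36688, 14567, 17087, 47739,
    44871, 18654, 29346, 64095, 34200, 63949, 6006, 28345, 39418, 46466, 32434, 26442, 34784, 56691,
    13108, 15979, 25371, 24157, 51139, 60778]

/-- A digit of a table entry as a field element. -/
def dig (n i : ℕ) : K8 := k (Fin.ofNat 8 (n / 8 ^ i))

/-- The sign of a table entry. -/
def sdig (n : ℕ) : Bool := decide (n / 8 ^ 5 = 1)

theorem w_sq : wV * wV = (1 : V) := by decide +kernel

theorem hV_wV : ∀ u : K8, u ≠ 0 → hV u * wV = wV * hV u⁻¹ := by decide +kernel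

set_option maxHeartbeats 4000000 in
theorem wV_uV_wV : ∀ i : Fin 64, i ≠ 0 →
    wV * uV false (k ⟨i.val / 8, by omega⟩) (k (Fin.ofNat 8 i.val)) * wV =
      uV (sdig (wTab i)) (dig (wTab i) 4) (dig (wTab i) 3) * hV (dig (wTab i) 2) * wV *
        uV false (dig (wTab i) 1) (dig (wTab i) 0) ∧ dig (wTab i) 2 ≠ 0 := by decide +kernel

end Cfsg.Agent.SzEightMult
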