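import Cfsg.Agent.Lib.SzEightMult.Data
import Cfsg.Agent.Lib.Sz.Aut
import Cfsg.Agent.Lib.SzEight.Twisted

/-!
The double cover of `Sz(8)` inside pairs of matrices: its elements are given by a Bruhat normal form, so that
it has at most `2 |Sz(8)|` elements.
-/

set_option autoImplicit false

namespace Cfsg.Agent.SzEightMult

open Matrix
open Cfsg.Agent.SzEight

theorem uV_mul (s : Bool) (a b : K8) (s' : Bool) (a' b' : K8) :
    uV s a b * uV s' a' b' = uV (s ^^ s' ^^ coc a b a' b') (a + a') (b + b' + thA a * a') := by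
  refine Prod.ext ?_ ?_
  · show mono _ _ * mono _ _ = mono _ _
    rw [mono_mul]
    refine mono_congr (fun x => by rw [add_assoc, add_comm a' a]) fun x => ?_
    have h := sg_mul a b a' b' x
    revert h
    generalize sg a b (x + a') = p
    generalize sg a' b' x = q
    generalize coc a b a' b' = r
    generalize sg (a + a') (b + b' + thA a * a') x = t
    revert p q r t s s'
    decide
  · show SZ.tMat 1 a b * SZ.tMat 1 a' b' = SZ.tMat 1 _ _
    rw [th_thA]
    exact congrArg Subtype.val (SZ.T_mul card_K8 a b a' b')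

theorem hd_eq (u : K8ˣ) : hd (u : K8) = (SZ.H 1 u).1 := rfl

theorem hd_mul {u v : K8} (hu : u ≠ 0) (hv : v ≠ 0) : hd u * hd v = hd (u * v) := by
  have h := congrArg Subtype.val (SZ.H_mul (m := 1) (Units.mk0 u hu) (Units.mk0 v hv))
  exact h.symm

theorem hd_one : hd (1 : K8) = 1 := congrArg Subtype.val (SZ.H_one (F := K8) (m := 1))

theorem hV_mul {u v : K8} (hu : u ≠ 0) (hv : v ≠ 0) : hV u * hV v = hV (u * v) := by
  refine Prod.ext ?_ (hd_mul hu hv)
  show mono _ _ * mono _ _ = mono _ _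
  rw [mono_mul]
  exact mono_congr (fun x => by rw [kk_mul, mul_assoc]) fun _ => rfl

theorem hV_uV {u : K8} (hu : u ≠ 0) (s : Bool) (a b : K8) :
    hV u * uV s a b = uV (s ^^ cocH u a b) (kk u * a) (thA u * b) * hV u := by
  refine Prod.ext ?_ ?_
  · show mono _ _ * mono _ _ = mono _ _ * mono _ _
    rw [mono_mul, mono_mul]
    refine mono_congr (fun x => by rw [mul_add]) fun x => ?_
    have h := sg_conj u a b x hu
    revert h
    generalize sg a b x = p
    generalize sg (kk u * a) (thA u * b) (kk u * x) = q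
    generalize cocH u a b = r
    revert p q r s
    decide
  · show hd u * SZ.tMat 1 a b = SZ.tMat 1 _ _ * hd u
    rw [(field_facts u hu).1, (field_facts u hu).2]
    exact congrArg Subtype.val (SZ.H_conj_T card_K8 (Units.mk0 u hu) a b)

theorem V_one : uV false 0 0 * hV 1 = (1 : V) := by decide +kernel

theorem V_one' : hV 1 = (1 : V) := by decide +kernel

theorem uV_zero : ∀ s, uV s 0 0 = (if s then ((-1, 1) : V) else 1) := by decide +kernel

/-- Normal forms in the Borel part. -/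
def formB (s : Bool) (a b u : K8) : V := uV s a b * hV u

/-- Normal forms in the big cell. -/
def formW (s : Bool) (a b u c d : K8) : V := uV s a b * hV u * wV * uV false c d

theorem formB_mul {u v : K8} (hu : u ≠ 0) (hv : v ≠ 0) (s : Bool) (a b : K8) (t : Bool) (c d : K8) :
    ∃ s' a' b', formB s a b u * formB t c d v = formB s' a' b' (u * v) := by
  refine ⟨s ^^ (t ^^ cocH u c d) ^^ coc a b (kk u * c) (thA u * d), a + kk u * c,
    b + thA u * d + thA a * (kk u * c), ?_⟩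
  rw [formB, formB, formB, mul_assoc (uV s a b), ← mul_assoc (hV u), hV_uV hu, mul_assoc,
    hV_mul hu hv, ← mul_assoc, uV_mul]

/-- Shifting the sign of a right translation. -/
theorem uV_sign (s : Bool) (c d : K8) : uV s c d = uV s 0 0 * uV false c d ∧
    uV s 0 0 * wV = wV * uV s 0 0 ∧ ∀ u, uV s 0 0 * hV u = hV u * uV s 0 0 := by
  refine ⟨?_, ?_, fun u => ?_⟩
  · rw [uV_mul]
    have h : ∀ c d : K8, coc 0 0 c d = false ∧ (0 : K8) + c = c ∧ 0 + d + thA 0 * c = d := by decide +kernel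
    obtain ⟨h1, h2, h3⟩ := h c d
    rw [h1, h2, h3]; simp
  · rw [uV_zero]
    cases s <;> simp [Prod.ext_iff, wV]
  · rw [uV_zero]
    cases s <;> simp [Prod.ext_iff, hV]

/-- Elements in normal form. -/
def Omega : Set V :=
  {x | (∃ s a b u, u ≠ 0 ∧ x = formB s a b u) ∨ ∃ s a b u c d, u ≠ 0 ∧ x = formW s a b u c d}

theorem formW_sign {u : K8} (s : Bool) (a b : K8) (t : Bool) (c d : K8) :
    ∃ s' a' b', uV s a b * hV u * wV * uV t c d = formW s' a' b' u c d := by
  refine ⟨s ^^ t ^^ coc a b 0 0, a, b + 0 + thA a * 0, ?_⟩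
  obtain ⟨e1, e2, e3⟩ := uV_sign t c d
  rw [e1, formW, ← mul_assoc, mul_assoc _ wV (uV t 0 0), ← e2, ← mul_assoc, mul_assoc _ (hV u) (uV t 0 0),
    ← e3 u, ← mul_assoc, uV_mul, add_zero]

theorem omega_mul_u {x : V} (hx : x ∈ Omega) (t : Bool) (c d : K8) : x * uV t c d ∈ Omega := by
  rcases hx with ⟨s, a, b, u, hu, rfl⟩ | ⟨s, a, b, u, c₀, d₀, hu, rfl⟩
  · refine Or.inl ⟨s ^^ (t ^^ cocH u c d) ^^ coc a b (kk u * c) (thA u * d), a + kk u * c,
      b + thA u * d + thA a * (kk u * c), u, hu, ?_⟩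
    rw [formB, formB, mul_assoc, hV_uV hu, ← mul_assoc, uV_mul]
  · obtain ⟨s', a', b', e⟩ := formW_sign (u := u) s a b (false ^^ t ^^ coc c₀ d₀ c d) (c₀ + c)
      (d₀ + d + thA c₀ * c)
    refine Or.inr ⟨s', a', b', u, c₀ + c, d₀ + d + thA c₀ * c, hu, ?_⟩
    rw [formW, mul_assoc, uV_mul, e]

theorem omega_mul_h {x : V} (hx : x ∈ Omega) {v : K8} (hv : v ≠ 0) : x * hV v ∈ Omega := by
  rcases hx with ⟨s, a, b, u, hu, rfl⟩ | ⟨s, a, b, u, c₀, d₀, hu, rfl⟩
  · exact Or.inl ⟨s, a, b, u * v, mul_ne_zero hu hv, by rw [formB, formB, mul_assoc, hV_mul hu hv]⟩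
  · -- move the torus element left through the translation and the involution
    have hv' : v⁻¹ ≠ 0 := inv_ne_zero hv
    have e1 : uV false c₀ d₀ * hV v =
        hV v * uV (cocH v⁻¹ c₀ d₀) (kk v⁻¹ * c₀) (thA v⁻¹ * d₀) := by
      have h := hV_uV hv' false c₀ d₀
      calc uV false c₀ d₀ * hV v = hV v * (hV v⁻¹ * uV false c₀ d₀) * hV v := by
            rw [← mul_assoc, hV_mul hv hv', mul_inv_cancel₀ hv, V_one', one_mul]
        _ = _ := by rw [h, Bool.false_xor, mul_assoc, mul_assoc _ (hV v⁻¹), hV_mul hv' hv,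
            inv_mul_cancel₀ hv, V_one', mul_one]
    obtain ⟨s', a', b', e⟩ := formW_sign (u := u * v⁻¹) s a b (cocH v⁻¹ c₀ d₀) (kk v⁻¹ * c₀)
      (thA v⁻¹ * d₀)
    refine Or.inr ⟨s', a', b', u * v⁻¹, kk v⁻¹ * c₀, thA v⁻¹ * d₀, mul_ne_zero hu hv', ?_⟩
    rw [formW, mul_assoc, e1, ← mul_assoc, mul_assoc _ wV (hV v)]
    have e2 : wV * hV v = hV v⁻¹ * wV := by rw [hV_wV _ hv', inv_inv]
    rw [e2, ← mul_assoc, mul_assoc _ (hV u) (hV v⁻¹), hV_mul hu hv', e]

theorem omega_mul_w {x : V} (hx : x ∈ Omega) : x * wV ∈ Omega := by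
  rcases hx with ⟨s, a, b, u, hu, rfl⟩ | ⟨s, a, b, u, c, d, hu, rfl⟩
  · refine Or.inr ⟨s, a, b, u, 0, 0, hu, ?_⟩
    rw [formB, formW, uV_zero]; simp
  · by_cases h0 : c = 0 ∧ d = 0
    · obtain ⟨rfl, rfl⟩ := h0
      refine Or.inl ⟨s, a, b, u, hu, ?_⟩
      rw [formB, formW, uV_zero]
      simp [mul_assoc, w_sq]
    · have key : ∀ c d : K8, ¬ (c = 0 ∧ d = 0) → ∃ i : Fin 64, i ≠ 0 ∧
          k ⟨i.val / 8, by omega⟩ = c ∧ k (Fin.ofNat 8 i.val) = d := by decide +kernel
      obtain ⟨i, hi, hc, hd'⟩ := key c d h0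
      obtain ⟨heq, hne⟩ := wV_uV_wV i hi
      subst hc hd'
      set n := wTab i
      obtain ⟨s', a', b', hB⟩ := formB_mul hu hne s a b (sdig n) (dig n 4) (dig n 3)
      refine Or.inr ⟨s', a', b', u * dig n 2, dig n 1, dig n 0, mul_ne_zero hu hne, ?_⟩
      have hB' : uV s a b * hV u * (uV (sdig n) (dig n 4) (dig n 3) * hV (dig n 2)) =
          uV s' a' b' * hV (u * dig n 2) := hB
      rw [formW, formW, mul_assoc (uV s a b * hV u), mul_assoc, heq, ← mul_assoc, ← mul_assoc, hB']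

theorem omega_one : (1 : V) ∈ Omega := Or.inl ⟨false, 0, 0, 1, one_ne_zero, V_one.symm⟩

theorem omega_mul {x y : V} (hx : x ∈ Omega) (hy : y ∈ Omega) : x * y ∈ Omega := by
  rcases hy with ⟨s, a, b, u, hu, rfl⟩ | ⟨s, a, b, u, c, d, hu, rfl⟩
  · rw [formB, ← mul_assoc]
    exact omega_mul_h (omega_mul_u hx s a b) hu
  · rw [formW, ← mul_assoc, ← mul_assoc, ← mul_assoc]
    exact omega_mul_u (omega_mul_w (omega_mul_h (omega_mul_u hx s a b) hu)) _ _ _

/-- The double cover. -/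
def Dbl : Subgroup Vˣ :=
  let S : Submonoid Vˣ :=
    { carrier := {x | (x : V) ∈ Omega}
      one_mem' := omega_one
      mul_mem' := fun hx hy => omega_mul hx hy }
  { S with
    inv_mem' := fun {g} hg => by
      have h1 : g⁻¹ = g ^ (orderOf g - 1) := by
        refine inv_eq_of_mul_eq_one_right ?_
        rw [← pow_succ', Nat.sub_add_cancel (orderOf_pos g), pow_orderOf_eq_one]
      show g⁻¹ ∈ S
      rw [h1]
      exact pow_mem hg _ }

instance finiteDbl : Finite Dbl := inferInstance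

theorem card_Dbl_le : Nat.card Dbl ≤ 58240 := by
  classical
  let B := Bool × K8 × K8 × {u : K8 // u ≠ 0}
  let f : B ⊕ (B × K8 × K8) → V := Sum.elim (fun x => formB x.1 x.2.1 x.2.2.1 x.2.2.2)
    (fun y => formW y.1.1 y.1.2.1 y.1.2.2.1 y.1.2.2.2 y.2.1 y.2.2)
  let g : Dbl → Set.range f := fun x => ⟨((x : Vˣ) : V), by
    rcases x.2 with ⟨s, a, b, u, hu, e⟩ | ⟨s, a, b, u, c, d, hu, e⟩
    · exact ⟨Sum.inl (s, a, b, ⟨u, hu⟩), e.symm⟩
    · exact ⟨Sum.inr ((s, a, b, ⟨u, hu⟩), c, d), e.symm⟩⟩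
  have hg : Function.Injective g := fun x y e =>
    Subtype.ext (Units.ext (congrArg Subtype.val e))
  have h7 : Nat.card {u : K8 // u ≠ 0} = 7 := by rw [Nat.card_eq_fintype_card]; decide +kernel
  have h8 : Nat.card K8 = 8 := by rw [Nat.card_eq_fintype_card]; exact card_K8
  refine (Nat.card_le_card_of_injective g hg).trans ((Finite.card_range_le f).trans (le_of_eq ?_))
  rw [Nat.card_sum, Nat.card_prod, Nat.card_prod, Nat.card_prod, Nat.card_prod, Nat.card_prod,
    Nat.card_prod, Nat.card_prod, Nat.card_prod,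
    Nat.card_eq_fintype_card (α := Bool), Fintype.card_bool, h7, h8]

theorem uV_inv (s : Bool) (a b : K8) : ∃ s' a' b', uV s a b * uV s' a' b' = 1 ∧ uV s' a' b' * uV s a b = 1 := by
  have h : ∀ a b : K8, a + a = 0 ∧ b + (b + thA a * a) + thA a * a = 0 ∧
      b + thA a * a + b + thA a * a = 0 ∧ coc a b a (b + thA a * a) = coc a (b + thA a * a) a b := by
    decide +kernel
  obtain ⟨h1, h2, h3, h4⟩ := h a b
  refine ⟨s ^^ coc a b a (b + thA a * a), a, b + thA a * a, ?_, ?_⟩
  · rw [uV_mul, h1, h2, uV_zero]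
    generalize coc a b a (b + thA a * a) = r
    cases s <;> cases r <;> rfl
  · rw [uV_mul, h1, h3, h4, uV_zero]
    generalize coc a (b + thA a * a) a b = r
    cases s <;> cases r <;> rfl

/-- Lifts of translations, as units. -/
noncomputable def uU (s : Bool) (a b : K8) : Vˣ :=
  ⟨uV s a b, _, (uV_inv s a b).choose_spec.choose_spec.choose_spec.1,
    (uV_inv s a b).choose_spec.choose_spec.choose_spec.2⟩

/-- Lifts of torus elements, as units. -/
def hU (u : K8ˣ) : Vˣ :=
  ⟨hV (u : K8), hV (u : K8)⁻¹,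
    by rw [hV_mul u.ne_zero (inv_ne_zero u.ne_zero), mul_inv_cancel₀ u.ne_zero, V_one'],
    by rw [hV_mul (inv_ne_zero u.ne_zero) u.ne_zero, inv_mul_cancel₀ u.ne_zero, V_one']⟩

/-- The lift of the involution, as a unit. -/
def wU : Vˣ := ⟨wV, wV, w_sq, w_sq⟩

theorem uU_mem (s : Bool) (a b : K8) : uU s a b ∈ Dbl := by
  have h := omega_mul_u omega_one s a b
  rw [one_mul] at h
  exact h

theorem hU_mem (u : K8ˣ) : hU u ∈ Dbl := by
  have h := omega_mul_h omega_one u.ne_zero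
  rw [one_mul] at h
  exact h

theorem wU_mem : wU ∈ Dbl := by
  have h := omega_mul_w omega_one
  rw [one_mul] at h
  exact h

theorem proj_mem {x : V} (hx : x ∈ Omega) : ∃ g : S8, mat g = x.2 := by
  have hu : ∀ u : K8, u ≠ 0 → ∃ g : S8, mat g = hd u := fun u hu =>
    ⟨SZ.hS card_K8 (Units.mk0 u hu), rfl⟩
  rcases hx with ⟨s, a, b, u, hu0, rfl⟩ | ⟨s, a, b, u, c, d, hu0, rfl⟩
  · obtain ⟨g, hg⟩ := hu u hu0
    exact ⟨SZ.tS card_K8 a b * g, by rw [mat_mul, hg]; rfl⟩
  · obtain ⟨g, hg⟩ := hu u hu0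
    exact ⟨SZ.tS card_K8 a b * g * SZ.wS card_K8 * SZ.tS card_K8 c d, by
      rw [mat_mul, mat_mul, mat_mul, hg]; rfl⟩

/-- The covering map. -/
noncomputable def dblHom : Dbl →* S8 :=
  MonoidHom.mk' (fun x => (proj_mem x.2).choose) fun x y => mat_inj (by
    rw [mat_mul, (proj_mem (x * y).2).choose_spec, (proj_mem x.2).choose_spec,
      (proj_mem y.2).choose_spec]
    rfl)

theorem mat_dblHom (x : Dbl) : mat (dblHom x) = ((x : Vˣ) : V).2 := (proj_mem x.2).choose_spec

/-- The lift of `T a b` in the cover. -/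
noncomputable def uD (s : Bool) (a b : K8) : Dbl := ⟨uU s a b, uU_mem s a b⟩

theorem dblHom_uD (s : Bool) (a b : K8) : dblHom (uD s a b) = SZ.tS card_K8 a b :=
  mat_inj (mat_dblHom _)

theorem dblHom_surjective : Function.Surjective dblHom := by
  intro g
  have hT : ∀ a b, ∃ x, dblHom x = SZ.tS card_K8 a b := fun a b => ⟨_, dblHom_uD false a b⟩
  have hH : ∀ u, ∃ x, dblHom x = SZ.hS card_K8 u := fun u =>
    ⟨⟨hU u, hU_mem u⟩, mat_inj (mat_dblHom _)⟩
  have hW : ∃ x, dblHom x = (SZ.wS card_K8 : S8) := ⟨⟨wU, wU_mem⟩, mat_inj (mat_dblHom _)⟩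
  have key : g ∈ dblHom.range := by
    rcases SZ.bruhat le_rfl card_K8 g.2 with ⟨a, b, u, h⟩ | ⟨a, b, c, d, u, h⟩
    · have e : g = SZ.tS card_K8 a b * SZ.hS card_K8 u := Subtype.ext h
      rw [e]
      exact mul_mem (hT a b) (hH u)
    · have e : g = SZ.tS card_K8 a b * SZ.wS card_K8 * (SZ.tS card_K8 c d * SZ.hS card_K8 u) :=
        Subtype.ext h
      rw [e]
      exact mul_mem (mul_mem (hT a b) hW) (mul_mem (hT c d) (hH u))
  exact key

/-- The central element. -/
noncomputable def zD : Dbl := uD true 0 0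

theorem zD_val : ((zD : Vˣ) : V) = ((-1, 1) : V) := uV_zero true

theorem zD_ne_one : zD ≠ 1 := by
  intro e
  have h := congrArg (fun x : Dbl => ((x : Vˣ) : V)) e
  rw [zD_val] at h
  have : (-1 : Matrix K8 K8 (ZMod 5)) 0 0 = (1 : Matrix K8 K8 (ZMod 5)) 0 0 :=
    congrFun (congrFun (congrArg Prod.fst h) 0) 0
  revert this
  decide +kernel

theorem dblHom_zD : dblHom zD = 1 := mat_inj (by rw [mat_dblHom, zD_val, mat_one])

theorem zD_central : zD ∈ Subgroup.center Dbl := by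
  rw [Subgroup.mem_center_iff]
  intro x
  apply Subtype.ext; apply Units.ext
  show ((x : Vˣ) : V) * ((zD : Vˣ) : V) = ((zD : Vˣ) : V) * ((x : Vˣ) : V)
  rw [zD_val]
  refine Prod.ext ?_ ?_
  · show _ * (-1) = (-1) * _
    rw [mul_neg, mul_one, neg_mul, one_mul]
  · show _ * 1 = 1 * _
    rw [mul_one, one_mul]

theorem ker_dblHom : ∀ x ∈ dblHom.ker, x = 1 ∨ x = zD := by
  intro x hx
  by_contra hne
  rw [not_or] at hne
  have h1 : Nat.card dblHom.ker * Nat.card S8 = Nat.card Dbl := by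
    rw [← Nat.card_congr (QuotientGroup.quotientKerEquivOfSurjective dblHom dblHom_surjective).toEquiv,
      mul_comm]
    exact (Subgroup.card_eq_card_quotient_mul_card_subgroup _).symm
  have h2 : 3 ≤ Nat.card dblHom.ker := by
    let f : Fin 3 → dblHom.ker := ![1, ⟨zD, dblHom_zD⟩, ⟨x, hx⟩]
    have hf : Function.Injective f := by
      intro i j e
      fin_cases i <;> fin_cases j <;> first
        | rfl
        | (have e' := congrArg Subtype.val e; simp [f] at e'
           first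
             | exact absurd e'.symm zD_ne_one | exact absurd e' zD_ne_one
             | exact absurd e'.symm hne.1 | exact absurd e' hne.1
             | exact absurd e'.symm hne.2 | exact absurd e' hne.2)
    simpa using Nat.card_le_card_of_injective f hf
  have h3 : Nat.card S8 = 29120 := by rw [SZ.card_Sz le_rfl card_K8, card_K8]; norm_num
  have h4 := card_Dbl_le
  rw [h3] at h1
  omega

end Cfsg.Agent.SzEightMult
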