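import Cfsg.Agent.Lib.SzEightMult.Double
import Cfsg.Agent.Lib.SzEightMult.Bound
import Cfsg.Agent.Lib.Schur.FibreProduct

/-!
The Schur multiplier of `Sz(8)` is a four-group.
-/

set_option autoImplicit false

namespace Cfsg.Agent.SzEightMult

open Matrix
open Cfsg.Agent.SzEight
open scoped commutatorElement

universe u

section Transport

variable {F : Type u} [Field F] [Fintype F]

/-- The Suzuki group over the model is the one over any field with eight elements. -/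
theorem exists_equiv (hF : Fintype.card F = 2 ^ (2 * 1 + 1)) : Nonempty (S8 ≃* Cfsg.Sz F 1) := by
  classical
  obtain ⟨f⟩ : Nonempty (K8 ≃+* F) :=
    ⟨FiniteField.ringEquivOfCardEq (K := K8) (K' := F) (by rw [card_K8, hF])⟩
  let φ : SpecialLinearGroup (Fin 4) K8 →* SpecialLinearGroup (Fin 4) F :=
    SpecialLinearGroup.map f.toRingHom
  have hT : ∀ a b, φ (SZ.T 1 a b) = SZ.T 1 (f a) (f b) := fun a b => by
    apply SZ.sl_ext
    show (SZ.tMat 1 a b).map f = SZ.tMat 1 (f a) (f b)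
    ext i j
    fin_cases i <;> fin_cases j <;> simp [SZ.tMat, SZ.zf, SZ.th]
  have hH : ∀ u : K8ˣ, φ (SZ.H 1 u) = SZ.H 1 (Units.map f.toMonoidHom u) := fun u => by
    apply SZ.sl_ext
    show (Matrix.diagonal (SZ.hVec 1 u)).map f = Matrix.diagonal (SZ.hVec 1 _)
    ext i j
    fin_cases i <;> fin_cases j <;> simp [SZ.hVec, SZ.th]
  have hW : φ SZ.W = SZ.W := by
    apply SZ.sl_ext
    show (SZ.wMat : Matrix (Fin 4) (Fin 4) K8).map f = SZ.wMat
    ext i j
    fin_cases i <;> fin_cases j <;> simp [SZ.wMat]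
  have hmem : ∀ g ∈ Cfsg.Sz K8 1, φ g ∈ Cfsg.Sz F 1 := by
    intro g hg
    rcases SZ.bruhat le_rfl card_K8 hg with ⟨a, b, u, rfl⟩ | ⟨a, b, c, d, u, rfl⟩
    · rw [map_mul, hT, hH]
      exact Subgroup.mul_mem _ (SZ.T_mem hF _ _) (SZ.H_mem hF _)
    · rw [map_mul, map_mul, map_mul, hT, hT, hH, hW]
      exact Subgroup.mul_mem _ (Subgroup.mul_mem _ (SZ.T_mem hF _ _) (SZ.W_mem hF))
        (Subgroup.mul_mem _ (SZ.T_mem hF _ _) (SZ.H_mem hF _))
  let ψ : S8 →* Cfsg.Sz F 1 := (φ.comp (Cfsg.Sz K8 1).subtype).codRestrict _ fun g => hmem g g.2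
  have hinj : Function.Injective ψ := fun g g' e => mat_inj (by
    have h := congrArg (fun x : Cfsg.Sz F 1 => x.1.1) e
    exact (Matrix.map_injective f.injective) h)
  haveI : Finite (Cfsg.Sz F 1) := inferInstance
  exact ⟨MulEquiv.ofBijective ψ ((Nat.bijective_iff_injective_and_card ψ).2
    ⟨hinj, by rw [SZ.card_Sz le_rfl hF, SZ.card_Sz le_rfl card_K8, hF, card_K8]⟩)⟩

end Transport

/-- The twisted covering map. -/
noncomputable def twHom : Dbl →* S8 :=
  (SZ.fieldAut le_rfl card_K8 fr).toMonoidHom.comp dblHom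

theorem twHom_surjective : Function.Surjective twHom :=
  (SZ.fieldAut le_rfl card_K8 fr).surjective.comp dblHom_surjective

/-- The fibre product of the two double covers. -/
noncomputable abbrev Quad : Subgroup (Dbl × Dbl) := Schur.fibre dblHom twHom

/-- The covering map. -/
noncomputable def quadHom : Quad →* S8 := dblHom.comp (Schur.fibreFst dblHom twHom)

theorem mem_ker_quad {x : Quad} : x ∈ quadHom.ker ↔
    ((x : Dbl × Dbl).1 = 1 ∨ (x : Dbl × Dbl).1 = zD) ∧ ((x : Dbl × Dbl).2 = 1 ∨ (x : Dbl × Dbl).2 = zD) := by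
  constructor
  · intro hx
    have h1 : dblHom (x : Dbl × Dbl).1 = 1 := hx
    have h2 : twHom (x : Dbl × Dbl).2 = 1 := (Schur.mem_fibre.1 x.2).symm.trans h1
    exact ⟨ker_dblHom _ h1, ker_dblHom _ ((SZ.fieldAut le_rfl card_K8 fr).map_eq_one_iff.1 h2)⟩
  · rintro ⟨h | h, -⟩ <;> show dblHom (x : Dbl × Dbl).1 = 1 <;> rw [h]
    · exact map_one _
    · exact dblHom_zD

/-- A lift of a translation in the fibre product. -/
noncomputable def qU (a b : K8) : Quad :=
  ⟨(uD false (fr a) (fr b), uD false a b), Schur.mem_fibre.2 (by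
    show dblHom _ = SZ.fieldAut le_rfl card_K8 fr (dblHom _)
    rw [dblHom_uD, dblHom_uD, SZ.fieldAut_tS])⟩

theorem comm_uD (a b a' b' : K8) (h1 : a + a' = a' + a) (h2 : b + b' + thA a * a' = b' + b + thA a' * a) :
    ⁅uD false a b, uD false a' b'⁆ =
      if coc a b a' b' = coc a' b' a b then (1 : Dbl) else zD := by
  have key : ∀ (x y w : Dbl), ((x : Vˣ) : V) * ((y : Vˣ) : V) =
      ((w : Vˣ) : V) * (((y : Vˣ) : V) * ((x : Vˣ) : V)) → ⁅x, y⁆ = w := by
    intro x y w e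
    have e' : x * y = w * (y * x) := Subtype.ext (Units.ext e)
    rw [commutatorElement_def, e']
    group
  refine key _ _ _ ?_
  show uV false a b * uV false a' b' = _ * (uV false a' b' * uV false a b)
  rw [uV_mul, uV_mul, h1, h2]
  split_ifs with h
  · show _ = 1 * _
    rw [one_mul, h]
  · have hz : coc a b a' b' = !coc a' b' a b := by
      revert h; cases coc a b a' b' <;> cases coc a' b' a b <;> simp
    show _ = uV true 0 0 * _
    rw [uV_mul, hz]
    have h0 : ∀ a b : K8, coc 0 0 a b = false ∧ 0 + a = a ∧ 0 + b + thA 0 * a = b := by decide +kernel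
    obtain ⟨e1, e2, e3⟩ := h0 (a' + a) (b' + b + thA a' * a)
    rw [e1, e2, e3]
    cases coc a' b' a b <;> rfl

theorem exists_witness :
    (∃ b, coc (fr 1) (fr 0) (fr 0) (fr b) ≠ coc (fr 0) (fr b) (fr 1) (fr 0) ∧
      coc 1 0 0 b = coc 0 b 1 0) ∧
    (∃ b, coc (fr 1) (fr 0) (fr 0) (fr b) = coc (fr 0) (fr b) (fr 1) (fr 0) ∧
      coc 1 0 0 b ≠ coc 0 b 1 0) ∧
    (∀ b : K8, (1 : K8) + 0 = 0 + 1 ∧ 0 + b + thA 1 * 0 = b + 0 + thA 0 * 1 ∧
      fr 1 + fr 0 = fr 0 + fr 1 ∧ fr 0 + fr b + thA (fr 1) * fr 0 = fr b + fr 0 + thA (fr 0) * fr 1) := by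
  decide +kernel

theorem quad_stem : Cfsg.IsStemExtension quadHom ∧ 4 ≤ Nat.card quadHom.ker := by
  obtain ⟨⟨b, hb, hb'⟩, ⟨c, hc, hc'⟩, hadd⟩ := exists_witness
  have hP : ((⁅qU 1 0, qU 0 b⁆ : Quad) : Dbl × Dbl) = (zD, 1) := by
    refine Prod.ext ?_ ?_
    · show ⁅uD false (fr 1) (fr 0), uD false (fr 0) (fr b)⁆ = zD
      rw [comm_uD _ _ _ _ (hadd b).2.2.1 (hadd b).2.2.2, if_neg hb]
    · show ⁅uD false (1 : K8) 0, uD false 0 b⁆ = 1
      rw [comm_uD _ _ _ _ (hadd b).1 (hadd b).2.1, if_pos hb']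
  have hQ : ((⁅qU 1 0, qU 0 c⁆ : Quad) : Dbl × Dbl) = (1, zD) := by
    refine Prod.ext ?_ ?_
    · show ⁅uD false (fr 1) (fr 0), uD false (fr 0) (fr c)⁆ = 1
      rw [comm_uD _ _ _ _ (hadd c).2.2.1 (hadd c).2.2.2, if_pos hc]
    · show ⁅uD false (1 : K8) 0, uD false 0 c⁆ = zD
      rw [comm_uD _ _ _ _ (hadd c).1 (hadd c).2.1, if_neg hc']
  set P : Quad := ⁅qU 1 0, qU 0 b⁆
  set Q : Quad := ⁅qU 1 0, qU 0 c⁆
  have hPc : P ∈ _root_.commutator Quad :=
    Subgroup.commutator_mem_commutator (Subgroup.mem_top _) (Subgroup.mem_top _)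
  have hQc : Q ∈ _root_.commutator Quad :=
    Subgroup.commutator_mem_commutator (Subgroup.mem_top _) (Subgroup.mem_top _)
  refine ⟨⟨dblHom_surjective.comp (Schur.fibreFst_surjective _ twHom_surjective), ?_, ?_⟩, ?_⟩
  · intro x hx
    obtain ⟨h1, h2⟩ := mem_ker_quad.1 hx
    have hc1 : ∀ y : Dbl, y = 1 ∨ y = zD → y ∈ Subgroup.center Dbl := by
      rintro y (rfl | rfl)
      · exact Subgroup.one_mem _
      · exact zD_central
    exact Subgroup.mem_center_iff.2 fun g => Subtype.ext (Prod.ext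
      (Subgroup.mem_center_iff.1 (hc1 _ h1) _) (Subgroup.mem_center_iff.1 (hc1 _ h2) _))
  · intro x hx
    obtain ⟨h1, h2⟩ := mem_ker_quad.1 hx
    have hval : ∀ y : Quad, (x : Dbl × Dbl) = (y : Dbl × Dbl) → y ∈ _root_.commutator Quad →
        x ∈ _root_.commutator Quad := fun y e hy => Subtype.ext e ▸ hy
    rcases h1 with h1 | h1 <;> rcases h2 with h2 | h2
    · exact hval 1 (Prod.ext h1 h2) (one_mem _)
    · exact hval Q (by rw [hQ]; exact Prod.ext h1 h2) hQc
    · exact hval P (by rw [hP]; exact Prod.ext h1 h2) hPc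
    · refine hval (P * Q) ?_ (mul_mem hPc hQc)
      rw [Subgroup.coe_mul, hP, hQ]
      exact Prod.ext (by simpa using h1) (by simpa using h2)
  · let f : Fin 4 → quadHom.ker := ![1,
      ⟨P, mem_ker_quad.2 (by rw [hP]; exact ⟨Or.inr rfl, Or.inl rfl⟩)⟩,
      ⟨Q, mem_ker_quad.2 (by rw [hQ]; exact ⟨Or.inl rfl, Or.inr rfl⟩)⟩,
      ⟨P * Q, mem_ker_quad.2 (by rw [Subgroup.coe_mul, hP, hQ]; simp)⟩]
    have hf : Function.Injective f := by
      intro i j e
      have e' := congrArg (fun y : quadHom.ker => ((y : Quad) : Dbl × Dbl)) e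
      fin_cases i <;> fin_cases j <;>
        simp [f, hP, hQ, Prod.ext_iff, zD_ne_one, zD_ne_one.symm] at e' ⊢
    simpa using Nat.card_le_card_of_injective f hf

/-- The Schur multiplier of `Sz(8)`. -/
theorem hasSchurMultiplier {F : Type u} [Field F] [Fintype F] (hF : Fintype.card F = 8) :
    Cfsg.HasSchurMultiplier ↥(Cfsg.Lie.Sz F 4) (Multiplicative (ZMod 2 × ZMod 2)) := by
  have hF' : Fintype.card F = 2 ^ (2 * 1 + 1) := by rw [hF]; norm_num
  let e : Cfsg.Sz F 1 ≃* Cfsg.Lie.Sz F 4 := SZ.szEquiv le_rfl hF'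
  have hup : ∀ (Γ : Type u) [Group Γ] [Finite Γ] (σ : Γ →* ↥(Cfsg.Lie.Sz F 4)),
      Cfsg.IsStemExtension σ →
      ∃ π : Multiplicative (ZMod 2 × ZMod 2) →* σ.ker, Function.Surjective π := by
    intro Γ _ _ σ hσ
    have hk : (e.symm.toMonoidHom.comp σ).ker = σ.ker := by
      ext y
      exact e.symm.map_eq_one_iff
    obtain ⟨π, hπ⟩ := exists_surjective hF' (e.symm.toMonoidHom.comp σ)
      ⟨e.symm.surjective.comp hσ.1, hk ▸ hσ.2.1, hk ▸ hσ.2.2⟩
    exact ⟨(MulEquiv.subgroupCongr hk).toMonoidHom.comp π,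
      (MulEquiv.subgroupCongr hk).surjective.comp hπ⟩
  refine ⟨?_, hup⟩
  obtain ⟨ψ⟩ := exists_equiv hF'
  obtain ⟨⟨hs, hz, hc⟩, hcard⟩ := quad_stem
  let d : ULift.{u} Quad ≃* Quad := MulEquiv.ulift
  let e8 : S8 ≃* ↥(Cfsg.Lie.Sz F 4) := ψ.trans e
  let σ : ULift.{u} Quad →* ↥(Cfsg.Lie.Sz F 4) := e8.toMonoidHom.comp (quadHom.comp d.toMonoidHom)
  have hker : ∀ x, x ∈ σ.ker ↔ d x ∈ quadHom.ker := fun x => e8.map_eq_one_iff
  have hσ : Cfsg.IsStemExtension σ := by
    refine ⟨e8.surjective.comp (hs.comp d.surjective), fun x hx => ?_, fun x hx => ?_⟩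
    · exact Subgroup.mem_center_iff.2 fun g => d.injective (by
        rw [map_mul, map_mul]
        exact Subgroup.mem_center_iff.1 (hz ((hker x).1 hx)) _)
    · have h1 := hc ((hker x).1 hx)
      have h2 : (_root_.commutator Quad).map d.symm.toMonoidHom ≤ _root_.commutator (ULift.{u} Quad) := by
        rw [_root_.commutator_def, _root_.commutator_def, Subgroup.map_commutator]
        exact Subgroup.commutator_mono le_top le_top
      exact h2 ⟨d x, h1, d.symm_apply_apply x⟩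
  haveI : Finite (ULift.{u} Quad) := inferInstance
  obtain ⟨π, hπ⟩ := hup _ σ hσ
  refine ⟨_, inferInstance, inferInstance, σ, hσ, ⟨(MulEquiv.ofBijective π ?_).symm⟩⟩
  let k : quadHom.ker → σ.ker := fun y => ⟨d.symm y, (hker _).2 (by rw [d.apply_symm_apply]; exact y.2)⟩
  have h4 : 4 ≤ Nat.card σ.ker := hcard.trans (Nat.card_le_card_of_injective k fun y y' h => Subtype.ext
    (d.symm.injective (congrArg Subtype.val h)))
  refine hπ.bijective_of_nat_card_le ?_
  rw [Nat.card_eq_fintype_card (α := Multiplicative (ZMod 2 × ZMod 2)), Fintype.card_multiplicative,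
    Fintype.card_prod, ZMod.card]
  exact h4

end Cfsg.Agent.SzEightMult
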