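import Cfsg.Agent.S2111

/-!
The 2-part of the multiplier of `Sz(2^(2m+1))` when lifts of the two layers of the Sylow subgroup commute (this is
automatic for `m ≥ 2`).
-/

set_option autoImplicit false

namespace Cfsg.Agent.SzEightMult

open Matrix Cfsg.Agent.S2111
open scoped Pointwise commutatorElement

variable {F : Type*} [Field F] [Fintype F] {m : ℕ}

set_option maxHeartbeats 1000000 in
/-- The 2-part. -/
theorem commutator_inf_ker_of_mixed (hm : 1 ≤ m) (hF : Fintype.card F = 2 ^ (2 * m + 1))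
    {Γ : Type*} [Group Γ] (σ : Γ →* Cfsg.Sz F m) (hs : Function.Surjective σ)
    (hz : σ.ker ≤ Subgroup.center Γ) (P : Subgroup Γ) (hP : IsPGroup 2 P)
    (hPU : ∀ x ∈ P, ∃ a b, σ x = SZ.tS hF a b)
    (hmixed : ∀ x y a b, σ x = SZ.tS hF a 0 → σ y = SZ.tS hF 0 b → Commute x y) : ⁅P, P⁆ ⊓ σ.ker = ⊥ := by
  classical
  choose s hs' using hs
  have hchar := SZ.two_zero hF
  have hnp : ¬ (Fintype.card F).Prime := by
    rw [hF]
    exact Nat.Prime.not_prime_pow (by omega)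
  have h4 : Fintype.card F ≠ 4 := by
    rw [hF]
    intro h
    have h' : (2 : ℕ) ^ (2 * m + 1) = 2 ^ 2 := h
    have := Nat.pow_right_injective le_rfl h'
    omega
  have h9 : Fintype.card F ≠ 9 := by
    rw [hF]
    intro h
    have : (2 : ℕ) ∣ 2 ^ (2 * m + 1) := dvd_pow_self 2 (by omega)
    omega
  -- commutators of lifts
  let C : Cfsg.Sz F m → Cfsg.Sz F m → Γ := fun X Y => ⁅s X, s Y⁆
  have hC : ∀ x y : Γ, ⁅x, y⁆ = C (σ x) (σ y) := fun x y =>
    comm_eq_of_map_eq σ hz (hs' _).symm (hs' _).symm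
  have Cinv : ∀ X Y, (C X Y)⁻¹ = C Y X := fun X Y => commutatorElement_inv _ _
  have Cl : ∀ X X' Y, Commute (C X' Y) (s X) → C (X * X') Y = C X' Y * C X Y := by
    intro X X' Y h
    rw [← comm_mul_left h, hC, map_mul, hs', hs', hs']
  have Cr : ∀ X Y Y', Commute (C X Y') (s Y) → C X (Y * Y') = C X Y * C X Y' := by
    intro X Y Y' h
    rw [← comm_mul_right h, hC (s X), map_mul, hs', hs', hs']
  have Ccomm : ∀ X Y, Commute X Y → C X Y ∈ Subgroup.center Γ := by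
    intro X Y h
    refine hz ?_
    show σ _ = 1
    rw [map_commutatorElement, hs', hs']
    exact commutatorElement_eq_one_iff_commute.2 h
  have Cconj : ∀ (u : Fˣ) X Y, C (SZ.hS hF u * X * (SZ.hS hF u)⁻¹)
      (SZ.hS hF u * Y * (SZ.hS hF u)⁻¹) =
      s (SZ.hS hF u) * C X Y * (s (SZ.hS hF u))⁻¹ := by
    intro u X Y
    rw [← comm_conj, hC (s (SZ.hS hF u) * s X * _)]
    simp only [map_mul, map_inv, hs']
  -- the two layers
  let A : F → Cfsg.Sz F m := fun a => SZ.tS hF a 0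
  let Z : F → Cfsg.Sz F m := fun b => SZ.tS hF 0 b
  have hZZ : ∀ b b', Z (b + b') = Z b * Z b' := fun b b' => by
    show SZ.tS hF 0 (b + b') = SZ.tS hF 0 b * SZ.tS hF 0 b'
    rw [SZ.tS_mul hF]; simp [SZ.th_zero]
  have hAZ : ∀ a b, SZ.tS hF a b = A a * Z b := fun a b => by
    show _ = SZ.tS hF a 0 * SZ.tS hF 0 b
    rw [SZ.tS_mul hF]; simp
  have hAA : ∀ a a', A (a + a') = Z (SZ.th m a * a') * (A a * A a') := fun a a' => by
    show SZ.tS hF (a + a') 0 = SZ.tS hF 0 _ * (SZ.tS hF a 0 * SZ.tS hF a' 0)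
    rw [SZ.tS_mul hF, SZ.tS_mul hF]
    congr 1 <;> simp [SZ.th_zero]
    linear_combination -(SZ.th m a * a') * hchar
  have hZcomm : ∀ b b', Commute (Z b) (Z b') := fun b b' => by
    show _ = _
    rw [← hZZ, add_comm, hZZ]
  have hAZcomm : ∀ a b, Commute (A a) (Z b) := fun a b => by
    show SZ.tS hF a 0 * SZ.tS hF 0 b = SZ.tS hF 0 b * SZ.tS hF a 0
    rw [SZ.tS_mul hF, SZ.tS_mul hF]; simp [SZ.th_zero]
  letI : CommGroup (Subgroup.center Γ) :=
    { (inferInstance : Group (Subgroup.center Γ)) with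
      mul_comm := fun x y => Subtype.ext (Subgroup.mem_center_iff.1 y.2 x.1) }
  have hcen : ∀ {z : Γ}, z ∈ Subgroup.center Γ → ∀ x, Commute z x := fun hz' x =>
    (Subgroup.mem_center_iff.1 hz' x).symm
  -- step 1: lifts of `Z` commute with each other
  have hψ : ∀ b b', C (Z b) (Z b') = 1 := by
    let ψ : F → F → Subgroup.center Γ := fun b b' =>
      ⟨C (Z b) (Z b'), Ccomm _ _ (hZcomm b b')⟩
    intro b b'
    refine congrArg Subtype.val (S2117.pairing_trivial hnp h4 h9 ψ ?_ ?_ ?_ b b')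
    · intro u u' v
      apply Subtype.ext
      show C (Z (u + u')) (Z v) = C (Z u) (Z v) * C (Z u') (Z v)
      rw [hZZ, Cl _ _ _ (hcen (Ccomm _ _ (hZcomm _ _)) _)]
      exact (hcen (Ccomm _ _ (hZcomm _ _)) _).eq
    · intro u v v'
      apply Subtype.ext
      show C (Z u) (Z (v + v')) = C (Z u) (Z v) * C (Z u) (Z v')
      rw [hZZ, Cr _ _ _ (hcen (Ccomm _ _ (hZcomm _ _)) _)]
    · intro a u v ha
      obtain ⟨w, hw⟩ := SZ.th_surj (m := m) hF (Units.mk0 (a * a) (mul_ne_zero ha ha))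
      rw [Units.val_mk0] at hw
      apply Subtype.ext
      show C (SZ.tS hF 0 (a * a * u)) (SZ.tS hF 0 (a * a * v)) = C (Z u) (Z v)
      have h := Cconj w (Z u) (Z v)
      simp only [Z, SZ.hS_conj_tS, mul_zero, hw] at h
      rw [h, ← (hcen (Ccomm _ _ (hZcomm u v)) _).eq, mul_inv_cancel_right]
  -- step 2: lifts of `Z` commute with lifts of the other layer
  have hφ : ∀ a b, C (A a) (Z b) = 1 := fun a b =>
    commutatorElement_eq_one_iff_commute.2 (hmixed _ _ a b (hs' _) (hs' _))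
  have hφ' : ∀ a b, C (Z b) (A a) = 1 := fun a b => by rw [← Cinv, hφ, inv_one]
  -- the abelian preimage of `Z`
  let ζ : Multiplicative F →* Cfsg.Sz F m :=
    MonoidHom.mk' (fun b => Z b.toAdd) fun b b' => hZZ b.toAdd b'.toAdd
  let Zt : Subgroup Γ := ζ.range.comap σ
  have hZt : ∀ {z : Γ}, z ∈ Zt → ∃ b, σ z = Z b := fun hz' => by
    obtain ⟨b, hb⟩ := hz'
    exact ⟨b.toAdd, hb.symm⟩
  have hZtc : ∀ {z : Γ}, z ∈ Zt → ∀ x, (∃ a b, σ x = A a * Z b) → Commute z x := by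
    intro z hz' x hx
    obtain ⟨c, hc⟩ := hZt hz'
    obtain ⟨a, b, hx⟩ := hx
    rw [← commutatorElement_eq_one_iff_commute, hC, hc, hx,
      Cr _ _ _ (by rw [hψ]; exact Commute.one_left _), hψ, hφ', one_mul]
  have hAmem : ∀ a, ∃ a' b, σ (s (A a)) = A a' * Z b := fun a => ⟨a, 0, by
    rw [hs']; exact hAZ a 0⟩
  have hZtcc : ∀ x y : Zt, x * y = y * x := fun x y => by
    obtain ⟨b, hb⟩ := hZt y.2
    exact Subtype.ext (hZtc x.2 _ ⟨0, b, by rw [hb]; show _ = SZ.tS hF 0 0 * _; rw [SZ.tS_mul hF]; simp [Z]⟩).eq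
  letI : CommGroup Zt := { (inferInstance : Group Zt) with mul_comm := hZtcc }
  have hAAmem : ∀ a a', C (A a) (A a') ∈ Zt := by
    intro a a'
    refine ⟨Multiplicative.ofAdd (SZ.th m a * a' + SZ.th m a' * a), ?_⟩
    show Z _ = σ ⁅s (A a), s (A a')⁆
    rw [map_commutatorElement, hs', hs', commutatorElement_def,
      eq_mul_inv_iff_mul_eq, eq_mul_inv_iff_mul_eq]
    show SZ.tS hF 0 (SZ.th m a * a' + SZ.th m a' * a) * SZ.tS hF a' 0 * SZ.tS hF a 0 =
      SZ.tS hF a 0 * SZ.tS hF a' 0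
    simp only [SZ.tS_mul hF]
    congr 1 <;> simp [SZ.th_zero]
    · ring
    · linear_combination (SZ.th m a' * a) * hchar
  -- averaging over the torus
  have hgZ : ∀ (w : Fˣ) {z : Γ}, z ∈ Zt →
      s (SZ.hS hF w) * z * (s (SZ.hS hF w))⁻¹ ∈ Zt := by
    intro w z hz'
    obtain ⟨b, hb⟩ := hZt hz'
    refine ⟨Multiplicative.ofAdd (SZ.th m (w : F) * b), ?_⟩
    show Z _ = σ _
    rw [map_mul σ, map_mul σ, map_inv σ, hs', hb]
    show SZ.tS hF 0 _ = SZ.hS hF w * SZ.tS hF 0 b * (SZ.hS hF w)⁻¹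
    rw [SZ.hS_conj_tS, mul_zero]
    rfl
  let cj : Fˣ → Zt → Zt := fun w z => ⟨_, hgZ w z.2⟩
  let e : Zt →* Zt := MonoidHom.mk' (fun z => ∏ w : Fˣ, cj w z) fun z z' => by
    rw [← Finset.prod_mul_distrib]
    refine Finset.prod_congr rfl fun w _ => Subtype.ext ?_
    show s (SZ.hS hF w) * ((z : Γ) * z') * (s (SZ.hS hF w))⁻¹ =
      s (SZ.hS hF w) * z * (s (SZ.hS hF w))⁻¹ * (s (SZ.hS hF w) * z' * (s (SZ.hS hF w))⁻¹)
    group
  have he : ∀ (v : Fˣ) (z : Zt), e (cj v z) = e z := by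
    intro v z
    show ∏ w : Fˣ, cj w (cj v z) = ∏ w : Fˣ, cj w z
    refine Fintype.prod_equiv (Equiv.mulRight v) _ _ fun w => Subtype.ext ?_
    show s (SZ.hS hF w) * (s (SZ.hS hF v) * z * (s (SZ.hS hF v))⁻¹) * (s (SZ.hS hF w))⁻¹ =
      s (SZ.hS hF (w * v)) * z * (s (SZ.hS hF (w * v)))⁻¹
    have hk : (s (SZ.hS hF (w * v)))⁻¹ * (s (SZ.hS hF w) * s (SZ.hS hF v)) ∈
        Subgroup.center Γ := hz (by
      show σ _ = 1
      simp only [map_mul, map_inv, hs', SZ.hS_mul hF, inv_mul_cancel])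
    have h1 := (hcen hk (z : Γ)).eq
    calc _ = s (SZ.hS hF (w * v)) * (((s (SZ.hS hF (w * v)))⁻¹ *
          (s (SZ.hS hF w) * s (SZ.hS hF v))) * z *
          ((s (SZ.hS hF (w * v)))⁻¹ * (s (SZ.hS hF w) * s (SZ.hS hF v)))⁻¹) *
          (s (SZ.hS hF (w * v)))⁻¹ := by group
      _ = _ := by rw [h1, mul_inv_cancel_right]
  let c : F → F → Zt := fun a a' => ⟨C (A a) (A a'), hAAmem a a'⟩
  have hc : ∀ a a', e (c a a') = 1 := by
    refine S2117.pairing_trivial hnp h4 h9 (fun a a' => e (c a a')) ?_ ?_ ?_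
    · intro a a' a''
      rw [← map_mul]
      congr 1
      apply Subtype.ext
      show C (A (a + a')) (A a'') = C (A a) (A a'') * C (A a') (A a'')
      have h1 := Cl (A a) (A a') (A a'') (hZtc (hAAmem _ _) _ (hAmem a))
      have h2 : Commute (C (A a * A a') (A a'')) (s (Z (SZ.th m a * a'))) := by
        refine (hZtc ?_ _ ?_).symm
        · exact ⟨Multiplicative.ofAdd (SZ.th m a * a'), (hs' _).symm⟩
        · refine ⟨0, (hZt (z := C (A a * A a') (A a'')) ?_).choose, ?_⟩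
          · rw [h1]; exact mul_mem (hAAmem _ _) (hAAmem _ _)
          · rw [← hAZ]
            exact (hZt (z := C (A a * A a') (A a'')) (by
              rw [h1]; exact mul_mem (hAAmem _ _) (hAAmem _ _))).choose_spec
      rw [hAA, Cl _ _ _ h2, hφ', mul_one, h1]
      exact congrArg Subtype.val (hZtcc ⟨_, hAAmem a' a''⟩ ⟨_, hAAmem a a''⟩)
    · intro a a' a''
      rw [← map_mul]
      congr 1
      apply Subtype.ext
      show C (A a) (A (a' + a'')) = C (A a) (A a') * C (A a) (A a'')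
      have h1 := Cr (A a) (A a') (A a'') (hZtc (hAAmem _ _) _ (hAmem a'))
      have h2 : C (A a) (A a' * A a'') ∈ Zt := by rw [h1]; exact mul_mem (hAAmem _ _) (hAAmem _ _)
      rw [hAA, Cr _ _ _ (hZtc h2 _ ⟨0, SZ.th m a' * a'', by rw [hs', ← hAZ]⟩), hφ, one_mul, h1]
    · intro k a a' hk
      obtain ⟨u, hu, -⟩ := SZ.k_surj (m := m) hF (mul_ne_zero hk hk)
      have h := Cconj u (A a) (A a')
      simp only [A, SZ.hS_conj_tS, mul_zero, hu] at h
      have h' : c (k * k * a) (k * k * a') = cj u (c a a') := Subtype.ext h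
      rw [h', he]
  -- conclusion
  have hgen : ⁅P, P⁆ ≤ e.ker.map Zt.subtype := by
    rw [Subgroup.commutator_le]
    intro x hx y hy
    obtain ⟨a, b, hab⟩ := hPU x hx
    obtain ⟨a', b', hab'⟩ := hPU y hy
    refine ⟨c a a', hc a a', ?_⟩
    show C (A a) (A a') = ⁅x, y⁆
    have hl : C (A a * Z b) (A a') = C (A a) (A a') := by
      rw [Cl _ _ _ (by rw [hφ']; exact Commute.one_left _), hφ', one_mul]
    have hr : C (A a * Z b) (Z b') = 1 := by
      rw [Cl _ _ _ (by rw [hψ]; exact Commute.one_left _), hψ, hφ, one_mul]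
    rw [hC, hab, hab', hAZ, hAZ, Cr _ _ _ (by rw [hr]; exact Commute.one_left _), hr, mul_one, hl]
  rw [eq_bot_iff]
  rintro x ⟨hxc, hxk⟩
  obtain ⟨z, hz1, rfl⟩ := hgen hxc
  have hcz : (z : Γ) ∈ Subgroup.center Γ := hz hxk
  have hpow : z ^ Fintype.card Fˣ = 1 := by
    rw [← hz1]
    show _ = ∏ w : Fˣ, cj w z
    rw [Finset.prod_congr rfl (fun w _ => show cj w z = z from Subtype.ext (by
      show s _ * (z : Γ) * (s _)⁻¹ = z
      rw [← (hcen hcz _).eq, mul_inv_cancel_right])), Finset.prod_const, Finset.card_univ]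
  obtain ⟨n, hn⟩ := hP ⟨_, Subgroup.commutator_le_self P hxc⟩
  have hn' : z ^ 2 ^ n = 1 := Subtype.ext (by simpa using congrArg Subtype.val hn)
  have hco : Nat.Coprime (Fintype.card Fˣ) (2 ^ n) := by
    apply Nat.Coprime.pow_right
    rw [Nat.coprime_two_right, Fintype.card_units, hF]
    exact Nat.Even.sub_odd Nat.one_le_two_pow (Nat.even_pow.2 ⟨even_two, by omega⟩) odd_one
  have := pow_gcd_eq_one.2 ⟨hpow, hn'⟩
  rw [hco.gcd_eq_one, pow_one] at this
  rw [this]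
  exact Subgroup.mem_bot.2 rfl

end Cfsg.Agent.SzEightMult
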